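import Groth.Agent.WeakAssLib.Basic
import Groth.Prelude.Def_TorSh
import Groth.Prelude.Def_Coh
import Mathlib.AlgebraicGeometry.FunctionField

/-!
Submodules of the sheaf of rational functions of an integral scheme.
-/

set_option autoImplicit false
set_option backward.isDefEq.respectTransparency false
set_option backward.isDefEq.respectTransparency.types false
set_option linter.style.haveILetI false
set_option linter.unusedSectionVars false

universe u

open CategoryTheory CategoryTheory.Limits AlgebraicGeometry TopologicalSpace Opposite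
open Groth.Agent.QC Groth.Agent.WeakAssLib

namespace Groth.Agent.RatFun

variable (X : Scheme.{u}) [IsIntegral X]

/-- the sheaf of rational functions -/
noncomputable abbrev P : X.Modules :=
  (Scheme.Modules.pushforward (X.fromSpecStalk (genericPoint X))).obj
    (Coh.structureModule (Spec (X.presheaf.stalk (genericPoint X))))

variable {X}

lemma generic_mem {U : X.Opens} {x : X} (hx : x ∈ U) : genericPoint X ∈ U :=
  ((genericPoint_spec X).mem_open_set_iff U.isOpen).mpr (by simpa using ⟨x, hx⟩)

lemma preimage_eq_top {U : X.Opens} (h : genericPoint X ∈ U) :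
    (X.fromSpecStalk (genericPoint X)) ⁻¹ᵁ U = ⊤ :=
  letI : Field (X.presheaf.stalk (genericPoint X)) := inferInstanceAs (Field X.functionField)
  eq_top_iff.2 fun z _ => by
    change (X.fromSpecStalk (genericPoint X)).base z ∈ U
    haveI : Subsingleton (Spec (X.presheaf.stalk (genericPoint X))) :=
      inferInstanceAs (Subsingleton (PrimeSpectrum (X.presheaf.stalk (genericPoint X))))
    rw [Subsingleton.elim z (IsLocalRing.closedPoint _), Scheme.fromSpecStalk_closedPoint]
    exact h

lemma subsingleton_sec {U : X.Opens} (h : genericPoint X ∉ U) : Subsingleton Γ(P X, U) := by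
  have hU : (X.fromSpecStalk (genericPoint X)) ⁻¹ᵁ U = ⊥ := eq_bot_iff.2 fun z hz => (h (generic_mem hz)).elim
  change Subsingleton Γ(Spec (X.presheaf.stalk (genericPoint X)), (X.fromSpecStalk (genericPoint X)) ⁻¹ᵁ U)
  rw [hU]
  infer_instance

/-- the value at the generic point -/
noncomputable def val {U : X.Opens} (h : genericPoint X ∈ U) :
    Γ(Spec (X.presheaf.stalk (genericPoint X)), (X.fromSpecStalk (genericPoint X)) ⁻¹ᵁ U) ⟶
      X.presheaf.stalk (genericPoint X) :=
  (Spec (X.presheaf.stalk (genericPoint X))).presheaf.map (homOfLE (preimage_eq_top h).ge).op ≫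
    (Scheme.ΓSpecIso (X.presheaf.stalk (genericPoint X))).hom

lemma val_bijective {U : X.Opens} (h : genericPoint X ∈ U) : Function.Bijective (val h).hom := by
  haveI : IsIso (homOfLE (preimage_eq_top h).ge) :=
    ⟨homOfLE (preimage_eq_top h).le, Subsingleton.elim _ _, Subsingleton.elim _ _⟩
  haveI : IsIso ((Spec (X.presheaf.stalk (genericPoint X))).presheaf.map (homOfLE (preimage_eq_top h).ge).op) :=
    inferInstance
  haveI : IsIso (val h) := by unfold val; infer_instance
  exact (ConcreteCategory.isIso_iff_bijective (val h)).1 inferInstance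

lemma val_map {U V : X.Opens} (i : V ⟶ U) (h : genericPoint X ∈ V) :
    (Spec (X.presheaf.stalk (genericPoint X))).presheaf.map
      ((Opens.map (X.fromSpecStalk (genericPoint X)).base).map i).op ≫ val h = val (i.le h) := by
  rw [val, val, ← Category.assoc, ← Functor.map_comp]
  rfl

lemma val_app {U : X.Opens} (h : genericPoint X ∈ U) :
    (X.fromSpecStalk (genericPoint X)).app U ≫ val h = X.presheaf.germ U (genericPoint X) h := by
  rw [Scheme.fromSpecStalk_app h, val, Category.assoc, Category.assoc, ← Functor.map_comp_assoc]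
  rw [show ((homOfLE le_top).op ≫ (homOfLE (preimage_eq_top h).ge).op) = 𝟙 (op ⊤) from Subsingleton.elim _ _,
    CategoryTheory.Functor.map_id, Category.id_comp, Iso.inv_hom_id, Category.comp_id]

/-- the value at the generic point, on sections of `P` -/
noncomputable def pval {U : X.Opens} (h : genericPoint X ∈ U) : Γ(P X, U) →+ X.presheaf.stalk (genericPoint X) :=
  (val h).hom.toAddMonoidHom

lemma pval_injective {U : X.Opens} (h : genericPoint X ∈ U) : Function.Injective (pval h) := (val_bijective h).1

lemma pval_smul {U : X.Opens} (h : genericPoint X ∈ U) (r : Γ(X, U)) (s : Γ(P X, U)) :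
    pval h (r • s) = (X.presheaf.germ U _ h).hom r * pval h s := by
  refine ((val h).hom.map_mul _ _).trans ?_
  congr 1
  exact ConcreteCategory.congr_hom (val_app h) r

lemma pval_map {U V : X.Opens} (i : V ⟶ U) (h : genericPoint X ∈ V) (s : Γ(P X, U)) :
    pval h ((P X).presheaf.map i.op s) = pval (i.le h) s :=
  ConcreteCategory.congr_hom (val_map i h) s

section Sub

variable (G : X.Modules) (i : G ⟶ P X) [Mono i]

include i in
lemma app_injective (U : X.Opens) : Function.Injective (i.app U) := by
  haveI : Mono ((Scheme.Modules.toPresheaf X).map i) := inferInstance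
  haveI : Mono (((Scheme.Modules.toPresheaf X).map i).app (op U)) := inferInstance
  exact (AddCommGrpCat.mono_iff_injective _).1 (inferInstanceAs (Mono (((Scheme.Modules.toPresheaf X).map i).app (op U))))

/-- sections of `G` as rational functions -/
noncomputable def rat {U : X.Opens} (h : genericPoint X ∈ U) : Γ(G, U) →+ X.presheaf.stalk (genericPoint X) :=
  (pval h).comp (i.app U).hom

lemma rat_injective {U : X.Opens} (h : genericPoint X ∈ U) : Function.Injective (rat G i h) :=
  fun _ _ hab => app_injective G i U (pval_injective h hab)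

lemma rat_smul {U : X.Opens} (h : genericPoint X ∈ U) (r : Γ(X, U)) (s : Γ(G, U)) :
    rat G i h (r • s) = (X.presheaf.germ U _ h).hom r * rat G i h s := by
  rw [rat, AddMonoidHom.comp_apply, AddMonoidHom.comp_apply]
  exact (congrArg (pval h) (Scheme.Modules.Hom.app_smul i r s)).trans (pval_smul h r _)

lemma rat_map {U V : X.Opens} (k : V ⟶ U) (h : genericPoint X ∈ V) (s : Γ(G, U)) :
    rat G i h (G.presheaf.map k.op s) = rat G i (k.le h) s := by
  refine Eq.trans ?_ (pval_map k h (i.app U s))
  exact congrArg (pval h) (ConcreteCategory.congr_hom ((i.mapPresheaf).naturality k.op) s)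

include i in
lemma eq_zero_of_res {U W : X.Opens} (k : W ⟶ U) (h : genericPoint X ∈ W) (s : Γ(G, U))
    (hs : G.presheaf.map k.op s = 0) : s = 0 :=
  rat_injective G i (k.le h) (by rw [← rat_map G i k h, hs, map_zero, map_zero])

include i in
theorem isTorsionFree : TorSh.IsTorsionFree G := by
  intro x
  haveI : IsDomain (X.presheaf.stalk x) := inferInstance
  refine Module.IsTorsionFree.of_smul_eq_zero fun a m ham => ?_
  obtain ⟨U, hxU, r, rfl⟩ := X.presheaf.exists_germ_eq a
  obtain ⟨V, hxV, s, rfl⟩ := G.presheaf.exists_germ_eq m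
  set r' := X.presheaf.map (homOfLE (inf_le_left : U ⊓ V ≤ U)).op r
  set s' := G.presheaf.map (homOfLE (inf_le_right : U ⊓ V ≤ V)).op s
  have er : (X.presheaf.germ U x hxU).hom r = (X.presheaf.germ (U ⊓ V) x ⟨hxU, hxV⟩).hom r' :=
    (X.presheaf.germ_res_apply _ _ _ _).symm
  have es : G.presheaf.germ V x hxV s = mgerm G (⟨hxU, hxV⟩ : x ∈ U ⊓ V) s' :=
    (G.presheaf.germ_res_apply _ _ _ _).symm
  rw [er, es, ← mgerm_smul] at ham
  obtain ⟨W, hxW, k, k', hk⟩ := TopCat.Presheaf.germ_eq (U := U ⊓ V) (V := U ⊓ V) G.presheaf x ⟨hxU, hxV⟩ ⟨hxU, hxV⟩ _ 0 (ham.trans (map_zero _).symm)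
  have hη : genericPoint X ∈ U ⊓ V := generic_mem (show x ∈ U ⊓ V from ⟨hxU, hxV⟩)
  have h0 : r' • s' = 0 := eq_zero_of_res G i k (generic_mem hxW) _ (hk.trans (map_zero _))
  have h1 := congrArg (rat G i hη) h0
  rw [rat_smul, map_zero, mul_eq_zero] at h1
  rcases h1 with h1 | h1
  · left
    rw [er, show r' = 0 from germ_injective_of_isIntegral X _ hη (h1.trans (map_zero _).symm), map_zero]
  · right
    rw [es, show s' = 0 from rat_injective G i hη (h1.trans (map_zero _).symm), map_zero]

include i in
theorem finrank_generic (hG : ¬ IsZero G) :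
    Module.finrank (X.presheaf.stalk (genericPoint X)) (G.presheaf.stalk (genericPoint X)) = 1 := by
  haveI : Nontrivial (X.presheaf.stalk (genericPoint X)) := inferInstanceAs (Nontrivial X.functionField)
  -- a non-zero section
  obtain ⟨U, s, hs⟩ : ∃ (U : X.Opens) (s : Γ(G, U)), s ≠ 0 := by
    by_contra hcon
    push Not at hcon
    apply hG
    rw [IsZero.iff_id_eq_zero]
    refine Scheme.Modules.hom_ext _ _ fun U => AddCommGrpCat.ext fun s => ?_
    rw [hcon U s, map_zero, map_zero]
  have hηU : genericPoint X ∈ U := by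
    by_contra hη
    haveI := subsingleton_sec hη
    exact hs (app_injective G i U (Subsingleton.elim _ _))
  refine finrank_eq_one (mgerm G hηU s) ?_ fun w => ?_
  · intro h0
    obtain ⟨W, hW, k, k', hk⟩ := TopCat.Presheaf.germ_eq G.presheaf _ hηU hηU _ 0 (h0.trans (map_zero _).symm)
    exact hs (eq_zero_of_res G i k hW s (hk.trans (map_zero _)))
  · obtain ⟨V, hV, t, rfl⟩ := G.presheaf.exists_germ_eq w
    have hne : rat G i hηU s ≠ 0 := fun h0 => hs (rat_injective G i hηU (h0.trans (map_zero _).symm))
    obtain ⟨e, he⟩ : ∃ e, e * rat G i hηU s = rat G i hV t :=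
      letI : Field (X.presheaf.stalk (genericPoint X)) := inferInstanceAs (Field X.functionField)
      ⟨rat G i hV t / rat G i hηU s, div_mul_cancel₀ _ hne⟩
    obtain ⟨W, hW, r, rfl⟩ := X.presheaf.exists_germ_eq e
    refine ⟨(X.presheaf.germ W _ hW).hom r, ?_⟩
    let k1 : U ⊓ V ⊓ W ⟶ U := homOfLE (inf_le_left.trans inf_le_left)
    let k2 : U ⊓ V ⊓ W ⟶ V := homOfLE (inf_le_left.trans inf_le_right)
    let k3 : U ⊓ V ⊓ W ⟶ W := homOfLE inf_le_right
    have h : genericPoint X ∈ U ⊓ V ⊓ W := ⟨⟨hηU, hV⟩, hW⟩
    have hgr := X.presheaf.germ_res_apply k3 _ h r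
    have key : X.presheaf.map k3.op r • G.presheaf.map k1.op s = G.presheaf.map k2.op t := by
      refine rat_injective G i h ?_
      rw [rat_smul, rat_map, rat_map, hgr, he]
    have := congrArg (mgerm G h) key
    rw [mgerm_smul, hgr] at this
    rwa [show mgerm G h (G.presheaf.map k1.op s) = mgerm G hηU s from G.presheaf.germ_res_apply _ _ _ _,
      show mgerm G h (G.presheaf.map k2.op t) = mgerm G hV t from G.presheaf.germ_res_apply _ _ _ _] at this

end Sub

section Embed

variable (F : X.Modules)

variable (ε : F.presheaf.stalk (genericPoint X) ≃ₗ[X.presheaf.stalk (genericPoint X)] X.presheaf.stalk (genericPoint X))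

open Classical in
/-- sections as rational functions, by their germs at the generic point -/
noncomputable def embApp (U : X.Opens) : Γ(F, U) →+ Γ(P X, U) :=
  if h : genericPoint X ∈ U then
    (AddEquiv.ofBijective (pval h) (val_bijective h)).symm.toAddMonoidHom.comp
      (ε.toLinearMap.toAddMonoidHom.comp (mgerm F h))
  else 0

lemma pval_embApp {U : X.Opens} (h : genericPoint X ∈ U) (s : Γ(F, U)) :
    pval h (embApp F ε U s) = ε (mgerm F h s) := by
  rw [embApp, dif_pos h]
  exact (AddEquiv.ofBijective (pval h) (val_bijective h)).apply_symm_apply (ε (mgerm F h s))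

lemma embApp_smul (U : X.Opens) (r : Γ(X, U)) (s : Γ(F, U)) : embApp F ε U (r • s) = r • embApp F ε U s := by
  by_cases h : genericPoint X ∈ U
  · refine pval_injective h ?_
    rw [pval_embApp, pval_smul, pval_embApp, mgerm_smul, map_smul, smul_eq_mul]
  · haveI := subsingleton_sec h
    exact Subsingleton.elim _ _

lemma embApp_map {U V : X.Opens} (k : V ⟶ U) (s : Γ(F, U)) :
    embApp F ε V (F.presheaf.map k.op s) = (P X).presheaf.map k.op (embApp F ε U s) := by
  by_cases h : genericPoint X ∈ V
  · refine pval_injective h ?_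
    rw [pval_embApp, pval_map, pval_embApp]
    exact congrArg ε (F.presheaf.germ_res_apply k _ h s)
  · haveI := subsingleton_sec h
    exact Subsingleton.elim _ _

/-- the morphism to the sheaf of rational functions -/
noncomputable def emb : F ⟶ P X :=
  ⟨{ app := fun U => ModuleCat.ofHom (Y := (P X).val.obj U)
      { toFun := embApp F ε U.unop
        map_add' := map_add _
        map_smul' := embApp_smul F ε U.unop }
     naturality := fun {U V} k => by
      ext s
      exact embApp_map F ε k.unop s }⟩

theorem germ_generic_injective [Coh.IsQCoh F] (hF : TorSh.IsTorsionFree F) {U : X.Opens} (h : genericPoint X ∈ U)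
    {s : Γ(F, U)} (hs : mgerm F h s = 0) : s = 0 := by
  refine ext_germ F s fun x hx => ?_
  obtain ⟨_, ⟨V, hV, rfl⟩, hxV, hVU⟩ := X.isBasis_affineOpens.exists_subset_of_mem_open hx U.2
  have hη : genericPoint X ∈ V := generic_mem hxV
  have hs' : mgerm F hη (res F (show V ≤ U from hVU) s) = 0 := by rw [mgerm_res]; exact hs
  obtain ⟨a, ha, has⟩ :=
    (germ_eq_zero_iff hV (isLoc_of_isQCoh hV (M := F)) hη _).1 hs'
  have h2 := mgerm_smul F hxV a (res F (show V ≤ U from hVU) s)
  rw [has, map_zero, mgerm_res] at h2
  haveI := hF x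
  rcases smul_eq_zero.1 h2.symm with h3 | h3
  · exact absurd (by rw [show a = 0 from germ_injective_of_isIntegral X x hxV (h3.trans (map_zero _).symm)];
                     exact Ideal.zero_mem _) ha
  · exact h3

theorem mono_emb [Coh.IsQCoh F] (hF : TorSh.IsTorsionFree F) : Mono (emb F ε) := by
  haveI : Mono ((Scheme.Modules.toPresheaf X).map (emb F ε)) := by
    haveI : ∀ U : (Opens X)ᵒᵖ, Mono (((Scheme.Modules.toPresheaf X).map (emb F ε)).app U) := by
      intro U
      refine (AddCommGrpCat.mono_iff_injective _).2 ((injective_iff_map_eq_zero _).2 fun s hs => ?_)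
      by_cases h : genericPoint X ∈ U.unop
      · refine germ_generic_injective F hF h (ε.injective ?_)
        rw [map_zero, ← pval_embApp F ε h s]
        exact (congrArg (pval h) hs).trans (map_zero _)
      · exact ext_germ F s fun x hx => (h (generic_mem hx)).elim
    exact NatTrans.mono_of_mono_app _
  exact (Scheme.Modules.toPresheaf X).mono_of_mono_map this

theorem exists_emb [Coh.IsQCoh F] (hF : TorSh.IsTorsionFree F)
    (h1 : Module.finrank (X.presheaf.stalk (genericPoint X)) (F.presheaf.stalk (genericPoint X)) = 1) :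
    ∃ i : F ⟶ P X, Mono i := by
  letI : Field (X.presheaf.stalk (genericPoint X)) := inferInstanceAs (Field X.functionField)
  obtain ⟨b⟩ := finrank_eq_one_iff PUnit.{u + 1} |>.1 h1
  let ε := b.equivFun.trans (LinearEquiv.funUnique PUnit.{u + 1} _ _)
  exact ⟨emb F ε, mono_emb F ε hF⟩

end Embed

end Groth.Agent.RatFun
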